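import Mathlib
import Groth.Prelude.Def_W4c1zetahwZeta
import Groth.Prelude.Def_SgaExt

/-!
# Points of a scheme over a field with values in extensions
-/

set_option autoImplicit false
universe u

open CategoryTheory AlgebraicGeometry

noncomputable section

namespace Groth.Agent.ZetaPts

variable {k : Type u} [Field k] {X : Scheme.{u}} (f : X ⟶ Spec (CommRingCat.of k))

/-- The constants in the residue field of a point. -/
def constHom (y : X) : CommRingCat.of k ⟶ X.residueField y :=
  Spec.preimage (X.fromSpecResidueField y ≫ f)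

/-- The residue field as an algebra over the ground field. -/
abbrev alg (y : X) : Algebra k (X.residueField y) := (constHom f y).hom.toAlgebra

lemma map_constHom (y : X) :
    Spec.map (constHom f y) = X.fromSpecResidueField y ≫ f := Spec.map_preimage _

lemma constHom_eq (y : X) :
    constHom f y = (Spec.preimage ((Spec (CommRingCat.of k)).fromSpecResidueField (f y))) ≫
      f.residueFieldMap y := by
  apply Spec.map_injective
  rw [map_constHom, Spec.map_comp, Spec.map_preimage,
    Scheme.Hom.SpecMap_residueFieldMap_fromSpecResidueField]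

lemma bijective_base (p : Spec (CommRingCat.of k)) :
    Function.Bijective (Spec.preimage ((Spec (CommRingCat.of k)).fromSpecResidueField p)).hom := by
  refine ⟨RingHom.injective _, ?_⟩
  have : p.asIdeal.IsPrime := PrimeSpectrum.isPrime (R := k) p
  have h : Spec.preimage ((Spec (CommRingCat.of k)).fromSpecResidueField p) =
      CommRingCat.ofHom (algebraMap k p.asIdeal.ResidueField) ≫
        (Scheme.Spec.residueFieldIso (CommRingCat.of k) p).inv := by
    apply Spec.map_injective
    rw [Spec.map_preimage, Spec.map_comp, Scheme.Spec.map_residueFieldIso_inv_eq_fromSpecResidueField]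
  rw [h]
  have : p.asIdeal.IsMaximal := by
    rw [(Ideal.eq_bot_or_top p.asIdeal).resolve_right ‹p.asIdeal.IsPrime›.ne_top]
    exact Ideal.bot_isMaximal
  have h₁ : Function.Surjective (algebraMap k p.asIdeal.ResidueField) := by
    intro z
    obtain ⟨w, rfl⟩ := (Ideal.bijective_algebraMap_quotient_residueField p.asIdeal).2 z
    obtain ⟨a, rfl⟩ := Ideal.Quotient.mk_surjective w
    exact ⟨a, rfl⟩
  intro z
  obtain ⟨a, ha⟩ := h₁ ((Scheme.Spec.residueFieldIso (CommRingCat.of k) p).hom z)
  exact ⟨a, by rw [CommRingCat.hom_comp, RingHom.comp_apply, CommRingCat.hom_ofHom, ha,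
    Iso.hom_inv_id_apply]⟩

lemma residueDegree_eq (y : X) :
    EGA4loc.residueDegree f y = @Module.finrank k (X.residueField y) _ _ (alg f y).toModule := by
  let _ := alg f y
  let _ := (f.residueFieldMap y).hom.toAlgebra
  refine (Algebra.finrank_eq_of_equiv_equiv (RingEquiv.ofBijective _ (bijective_base (f y)))
    (RingEquiv.refl (X.residueField y)) ?_).symm
  change (RingHom.comp (f.residueFieldMap y).hom _) = _
  ext a
  exact (congrArg (fun φ : CommRingCat.of k ⟶ X.residueField y => φ.hom a) (constHom_eq f y)).symm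

variable (L : Type u) [Field L] [Algebra k L]

/-- The points with values in `L`. -/
abbrev Pt : Type u :=
  { g : Spec (CommRingCat.of L) ⟶ X // g ≫ f = Spec.map (CommRingCat.ofHom (algebraMap k L)) }

/-- The algebra maps out of the residue field of a point. -/
abbrev Emb (y : X) : Type u :=
  { ι : X.residueField y ⟶ CommRingCat.of L //
    constHom f y ≫ ι = CommRingCat.ofHom (algebraMap k L) }

/-- A point with values in `L` is a point and an embedding of its residue field. -/
def ptEquiv : Pt f L ≃ Σ y : X, Emb f L y :=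
  ((Scheme.SpecToEquivOfField L X).subtypeEquiv (q := fun σ : (y : X) × (X.residueField y ⟶ _) =>
      constHom f σ.1 ≫ σ.2 = CommRingCat.ofHom (algebraMap k L)) fun g => by
    conv_lhs => rw [← (Scheme.SpecToEquivOfField L X).symm_apply_apply g]
    generalize Scheme.SpecToEquivOfField L X g = σ
    change (Spec.map σ.2 ≫ X.fromSpecResidueField σ.1) ≫ f = _ ↔ _
    rw [Category.assoc, ← map_constHom, ← Spec.map_comp, Spec.map_inj]).trans
    { toFun := fun σ => ⟨σ.1.1, σ.1.2, σ.2⟩
      invFun := fun σ => ⟨⟨σ.1, σ.2.1⟩, σ.2.2⟩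
      left_inv := fun _ => rfl
      right_inv := fun _ => rfl }

/-- Embeddings are algebra maps. -/
def embEquiv (y : X) : Emb f L y ≃ @AlgHom k (X.residueField y) L _ _ _ (alg f y) _ :=
  let _ := alg f y
  { toFun := fun ι => { ι.1.hom with commutes' := fun a => congrArg (fun φ => φ.hom a) ι.2 }
    invFun := fun φ => ⟨CommRingCat.ofHom φ.toRingHom, CommRingCat.hom_ext φ.comp_algebraMap⟩
    left_inv := fun _ => rfl
    right_inv := fun _ => rfl }

section LFT

variable [LocallyOfFiniteType f]

lemma finite_residueField_iff (y : X) :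
    (let _ := alg f y; Module.Finite k (X.residueField y)) ↔ IsClosed ({y} : Set X) := by
  have : JacobsonSpace X := LocallyOfFiniteType.jacobsonSpace f
  let _ := alg f y
  constructor
  · intro (h : Module.Finite k (X.residueField y))
    rw [isClosed_singleton_iff_locallyOfFiniteType]
    have : LocallyOfFiniteType (X.fromSpecResidueField y ≫ f) := by
      rw [← map_constHom, HasRingHomProperty.Spec_iff (P := @LocallyOfFiniteType)]
      exact RingHom.finiteType_algebraMap.mpr inferInstance
    exact locallyOfFiniteType_of_comp (X.fromSpecResidueField y) f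
  · intro h
    have := isClosed_singleton_iff_locallyOfFiniteType.mp h
    have h' : LocallyOfFiniteType (X.fromSpecResidueField y ≫ f) := inferInstance
    rw [← map_constHom, HasRingHomProperty.Spec_iff (P := @LocallyOfFiniteType)] at h'
    have : Algebra.FiniteType k (X.residueField y) := RingHom.finiteType_algebraMap.mp h'
    exact finite_of_finite_type_of_isJacobsonRing _ _

lemma residueDegree_pos_iff (y : X) :
    0 < EGA4loc.residueDegree f y ↔ IsClosed ({y} : Set X) := by
  let _ := alg f y
  rw [residueDegree_eq, ← finite_residueField_iff f y]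
  exact ⟨fun h => Module.finite_of_finrank_pos h, fun h => have : Module.Finite k _ := h
    Module.finrank_pos⟩

lemma finite_pt [QuasiCompact f] [Finite L] : Finite (Pt f L) := by
  have : CompactSpace X := QuasiCompact.compactSpace_of_compactSpace f
  let 𝒰 := X.affineCover.finiteSubcover
  have hfin : ∀ i, Finite { g : Spec (CommRingCat.of L) ⟶ 𝒰.X i //
      g ≫ 𝒰.f i ≫ f = Spec.map (CommRingCat.ofHom (algebraMap k L)) } := by
    intro i
    obtain ⟨R, ⟨e⟩⟩ : ∃ R : CommRingCat.{u}, Nonempty (Spec R ≅ 𝒰.X i) :=
      ⟨_, ⟨(Scheme.isoSpec (𝒰.X i)).symm⟩⟩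
    let φ : CommRingCat.of k ⟶ R := Spec.preimage (e.hom ≫ 𝒰.f i ≫ f)
    let _ : Algebra k R := φ.hom.toAlgebra
    have hR : Algebra.FiniteType k R := by
      have : LocallyOfFiniteType (Spec.map φ) := by rw [Spec.map_preimage]; infer_instance
      rw [HasRingHomProperty.Spec_iff (P := @LocallyOfFiniteType)] at this
      exact RingHom.finiteType_algebraMap.mp this
    obtain ⟨s, hs⟩ := hR.out
    have : Finite (R →ₐ[k] L) := Finite.of_injective
      (fun (φ : R →ₐ[k] L) (x : s) => φ x)
      fun φ ψ h => AlgHom.ext_of_adjoin_eq_top hs fun x hx => congrFun h ⟨x, hx⟩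
    refine Finite.of_injective (β := R →ₐ[k] L)
      (fun g => { (Spec.preimage (g.1 ≫ e.inv)).hom with
        commutes' := fun a => congrArg (fun ψ => ψ.hom a) (show φ ≫ Spec.preimage (g.1 ≫ e.inv) =
          CommRingCat.ofHom (algebraMap k L) from Spec.map_injective (by
            rw [Spec.map_comp, Spec.map_preimage, Spec.map_preimage, Category.assoc,
              e.inv_hom_id_assoc, g.2])) }) fun g g' h => ?_
    have h' : Spec.preimage (g.1 ≫ e.inv) = Spec.preimage (g'.1 ≫ e.inv) :=
      CommRingCat.hom_ext (RingHom.ext fun a => congrArg (fun ψ : R →ₐ[k] L => ψ a) h)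
    have := congrArg Spec.map h'
    rw [Spec.map_preimage, Spec.map_preimage, cancel_mono] at this
    exact Subtype.ext this
  refine Finite.of_surjective (α := Σ i, { g : Spec (CommRingCat.of L) ⟶ 𝒰.X i //
      g ≫ 𝒰.f i ≫ f = Spec.map (CommRingCat.ofHom (algebraMap k L)) })
    (fun x => ⟨x.2.1 ≫ 𝒰.f x.1, by rw [Category.assoc]; exact x.2.2⟩) fun g => ?_
  let p := IsLocalRing.closedPoint L
  obtain ⟨i, z, hz⟩ := 𝒰.exists_eq (g.1 p)
  have hr : Set.range g.1 ⊆ Set.range (𝒰.f i) := by
    rintro _ ⟨q, rfl⟩
    exact ⟨z, hz.trans (congrArg g.1 (Subsingleton.elim (α := PrimeSpectrum L) p q))⟩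
  refine ⟨⟨i, IsOpenImmersion.lift (𝒰.f i) g.1 hr, ?_⟩, Subtype.ext ?_⟩
  · rw [IsOpenImmersion.lift_fac_assoc]
    exact g.2
  · exact IsOpenImmersion.lift_fac _ _ _

variable [Finite k]

open Classical in
lemma natCard_emb [Finite L] (y : X) :
    Nat.card (Emb f L y) = if IsClosed ({y} : Set X) ∧
      EGA4loc.residueDegree f y ∣ Module.finrank k L then EGA4loc.residueDegree f y else 0 := by
  let _ := alg f y
  rw [Nat.card_congr (embEquiv f L y), residueDegree_eq, ← finite_residueField_iff f y]
  by_cases h : Module.Finite k (X.residueField y)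
  · have : Finite (X.residueField y) := Module.finite_of_finite k
    by_cases hd : Module.finrank k (X.residueField y) ∣ Module.finrank k L
    · rw [if_pos ⟨h, hd⟩]
      exact FiniteField.natCard_algHom_of_finrank_dvd hd
    · rw [if_neg (fun h' => hd h'.2)]
      have : IsEmpty (X.residueField y →ₐ[k] L) :=
        not_nonempty_iff.mp fun hn => hd (FiniteField.nonempty_algHom_iff_finrank_dvd.mp hn)
      exact Nat.card_of_isEmpty
  · rw [if_neg (fun h' => h h'.1)]
    have : IsEmpty (X.residueField y →ₐ[k] L) := ⟨fun φ =>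
      h (Module.Finite.of_injective φ.toLinearMap φ.toRingHom.injective)⟩
    exact Nat.card_of_isEmpty

end LFT

end Groth.Agent.ZetaPts

end
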