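import Mathlib
import Groth.Agent.ZetaPts.Points

/-!
# Counting points over finite fields
-/

set_option autoImplicit false
universe u

open CategoryTheory AlgebraicGeometry

noncomputable section

namespace Groth.Agent.ZetaPts

variable {k : Type u} [Field k] [Finite k] {X : Scheme.{u}} (f : X ⟶ Spec (CommRingCat.of k))
  [LocallyOfFiniteType f] [QuasiCompact f]

lemma emb_nonempty_iff (L : Type u) [Field L] [Algebra k L] [Finite L] (y : X) :
    Nonempty (Emb f L y) ↔
      IsClosed ({y} : Set X) ∧ EGA4loc.residueDegree f y ∣ Module.finrank k L := by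
  classical
  have h := natCard_emb f L y
  by_cases hy : IsClosed ({y} : Set X) ∧ EGA4loc.residueDegree f y ∣ Module.finrank k L
  · rw [if_pos hy] at h
    refine iff_of_true ?_ hy
    exact (Nat.card_pos_iff.mp (h ▸ (residueDegree_pos_iff f y).mpr hy.1)).1
  · refine iff_of_false (fun ⟨ι⟩ => ?_) hy
    rw [if_neg hy] at h
    have : Finite (Emb f L y) := by
      have := finite_pt f L
      exact Finite.of_injective (fun ι => (ptEquiv f L).symm ⟨y, ι⟩) fun a b hab =>
        eq_of_heq (Sigma.mk.inj_iff.mp ((ptEquiv f L).symm.injective hab)).2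
    rcases Nat.card_eq_zero.mp h with h' | h'
    · exact h'.elim ι
    · exact h'.not_finite this

/-- The closed points of degree dividing `[L : k]` are finite. -/
lemma finite_closed_dvd (L : Type u) [Field L] [Algebra k L] [Finite L] :
    {y : X | IsClosed ({y} : Set X) ∧ EGA4loc.residueDegree f y ∣ Module.finrank k L}.Finite := by
  have := finite_pt f L
  refine (Set.finite_range (fun g : Pt f L => (ptEquiv f L g).1)).subset fun y hy => ?_
  obtain ⟨ι⟩ := (emb_nonempty_iff f L y).mpr hy
  exact ⟨(ptEquiv f L).symm ⟨y, ι⟩, by simp⟩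

/-- The closed points of a given degree are finite. -/
lemma finite_degree (e : ℕ) :
    {y : X | IsClosed ({y} : Set X) ∧ EGA4loc.residueDegree f y = e}.Finite := by
  rcases Set.eq_empty_or_nonempty
    {y : X | IsClosed ({y} : Set X) ∧ EGA4loc.residueDegree f y = e} with h | ⟨y₀, hy₀, he⟩
  · rw [h]; exact Set.finite_empty
  · let _ := alg f y₀
    have : Module.Finite k (X.residueField y₀) := (finite_residueField_iff f y₀).mpr hy₀
    have : Finite (X.residueField y₀) := Module.finite_of_finite k
    refine (finite_closed_dvd f (X.residueField y₀)).subset fun y hy => ⟨hy.1, ?_⟩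
    rw [hy.2, ← residueDegree_eq, he]

variable (L : Type u) [Field L] [Algebra k L] [Finite L]

/-- The number of points with values in a finite extension. -/
theorem natCard_pt : Nat.card (Pt f L) = Zeta.nPts f (Module.finrank k L) := by
  classical
  have : Module.Finite k L := Module.Finite.of_finite
  have hr : Module.finrank k L ≠ 0 := Module.finrank_pos.ne'
  let S := (finite_closed_dvd f L).toFinset
  have hS : ∀ y, y ∈ S ↔ IsClosed ({y} : Set X) ∧
      EGA4loc.residueDegree f y ∣ Module.finrank k L := fun y =>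
    Set.Finite.mem_toFinset _
  let e : (Σ y : X, Emb f L y) ≃ Σ y : S, Emb f L y.1 :=
    { toFun := fun σ => ⟨⟨σ.1, (hS _).mpr ((emb_nonempty_iff f L σ.1).mp ⟨σ.2⟩)⟩, σ.2⟩
      invFun := fun σ => ⟨σ.1.1, σ.2⟩
      left_inv := fun _ => rfl
      right_inv := fun _ => rfl }
  have hfin : ∀ y : S, Finite (Emb f L y.1) := fun y => Nat.finite_of_card_ne_zero (by
    rw [natCard_emb, if_pos ((hS _).mp y.2)]
    exact ((residueDegree_pos_iff f y.1).mpr ((hS _).mp y.2).1).ne')
  rw [Nat.card_congr ((ptEquiv f L).trans e), Nat.card_sigma]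
  simp only [natCard_emb]
  rw [Finset.sum_coe_sort S (fun y => if IsClosed ({y} : Set X) ∧
      EGA4loc.residueDegree f y ∣ Module.finrank k L then EGA4loc.residueDegree f y else 0),
    ← Finset.sum_fiberwise_of_maps_to
      (fun y hy => Nat.mem_divisors.mpr ⟨((hS y).mp hy).2, hr⟩), Zeta.nPts]
  refine Finset.sum_congr rfl fun d hd => ?_
  have hd' := (Nat.mem_divisors.mp hd).1
  rw [Finset.sum_congr rfl (g := fun _ => d) fun y hy => by
      obtain ⟨h₁, h₂⟩ := Finset.mem_filter.mp hy
      rw [if_pos ((hS y).mp h₁), h₂],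
    Finset.sum_const, smul_eq_mul, mul_comm]
  congr 1
  rw [Zeta.degCount, ← Nat.card_eq_finsetCard]
  refine Nat.card_congr (Equiv.subtypeEquivRight fun y => ?_)
  rw [Finset.mem_filter, hS]
  exact ⟨fun h => ⟨h.1.1, h.2⟩, fun h => ⟨⟨h.1, h.2.symm ▸ hd'⟩, h.2⟩⟩

lemma pointCount_eq : SgaExt.pointCount f L = Zeta.nPts f (Module.finrank k L) :=
  natCard_pt f L

end Groth.Agent.ZetaPts

end
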