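import Mathlib
import Groth.Agent.ZetaPts.Count
import Groth.Agent.ZetaAlg.LogDeriv

/-!
# The zeta function as a power series
-/

set_option autoImplicit false
universe u v

open CategoryTheory AlgebraicGeometry PowerSeries Groth.Agent.ZetaAlg

noncomputable section

namespace Groth.Agent.ZetaPts

section Series

variable {K : Type v} [Field K]

lemma hasLD_map {L : Type v} [Field L] (φ : K →+* L) {f h : PowerSeries K} (hf : HasLD f h) :
    HasLD (PowerSeries.map φ f) (PowerSeries.map φ h) := by
  have := congrArg (PowerSeries.map φ) hf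
  rw [map_mul] at this
  rw [HasLD, ← this]
  ext m
  simp [coeff_derivative]

lemma HasLD.pow {f h : PowerSeries K} (hf : HasLD f h) (n : ℕ) : HasLD (f ^ n) (n • h) := by
  induction n with
  | zero => simpa using hasLD_one
  | succ n ih => rw [pow_succ, succ_nsmul]; exact ih.mul hf

/-- The logarithmic derivative of `1 - c X ^ r`. -/
lemma hasLD_one_sub_C_mul_X_pow (c : K) (r : ℕ) (hr : r ≠ 0) :
    HasLD (1 - C c * X ^ r : PowerSeries K)
      (PowerSeries.mk fun m => if r ∣ m + 1 then -((r : K) * c ^ ((m + 1) / r)) else 0) := by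
  rw [HasLD, map_sub, derivative_one, zero_sub, Derivation.leibniz, PowerSeries.derivative_C,
    smul_zero, add_zero, smul_eq_mul, Derivation.leibniz_pow, sub_mul, one_mul, mul_assoc]
  ext m
  rw [map_neg, map_sub, PowerSeries.derivative_X, smul_eq_mul, mul_one, nsmul_eq_mul,
    ← map_natCast (C (R := K)) r, ← mul_assoc, ← map_mul, coeff_C_mul, coeff_C_mul, coeff_X_pow,
    coeff_X_pow_mul', coeff_mk, coeff_mk]
  by_cases hm : m + 1 = r
  · rw [if_pos (show m = r - 1 by omega), if_neg (show ¬r ≤ m by omega),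
      if_pos (show r ∣ m + 1 by rw [hm]), hm, Nat.div_self (Nat.pos_of_ne_zero hr), pow_one]
    ring
  · rw [if_neg (by omega), mul_zero, neg_zero]
    by_cases hle : r ≤ m
    · have h₁ : (r ∣ m - r + 1) ↔ r ∣ m + 1 := by
        rw [show m + 1 = m - r + 1 + r by omega]
        exact (Nat.dvd_add_self_right).symm
      rw [if_pos hle]
      by_cases hd : r ∣ m + 1
      · rw [if_pos hd, if_pos (h₁.mpr hd),
          show (m + 1) / r = (m - r + 1) / r + 1 by
            rw [← Nat.add_div_right _ (Nat.pos_of_ne_zero hr), show m - r + 1 + r = m + 1 by omega],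
          pow_succ]
        ring
      · rw [if_neg hd, if_neg (mt h₁.mp hd), mul_zero, sub_zero]
    · rw [if_neg hle, mul_zero, sub_zero, if_neg]
      intro hd
      exact hm (le_antisymm (by omega) (Nat.le_of_dvd (by omega) hd))

lemma hasLD_one_sub_C_mul_X (c : K) :
    HasLD (1 - C c * X : PowerSeries K) (PowerSeries.mk fun m => -c ^ (m + 1)) := by
  simpa using hasLD_one_sub_C_mul_X_pow c 1 one_ne_zero

/-- A series whose logarithmic derivative starts at degree `n` is constant up to degree `n`. -/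
lemma trunc_of_hasLD [CharZero K] {f h : PowerSeries K} (hf : HasLD f h)
    (h0 : constantCoeff f = 1) (n : ℕ) (hn : ∀ m < n, coeff m h = 0) :
    trunc (n + 1) f = 1 := by
  ext i
  rw [coeff_trunc, Polynomial.coeff_one]
  rcases i with _ | i
  · rw [if_pos n.succ_pos, if_pos rfl, coeff_zero_eq_constantCoeff_apply, h0]
  · rw [if_neg (Nat.succ_ne_zero i)]
    split_ifs with hi
    · have hd := congrArg (coeff i) hf
      rw [coeff_derivative, coeff_mul, Finset.sum_eq_zero fun p hp => by
        rw [hn p.2 (by have := Finset.HasAntidiagonal.mem_antidiagonal.mp hp; omega), mul_zero]] at hd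
      exact (mul_eq_zero.mp hd).resolve_right (by exact_mod_cast Nat.succ_ne_zero i)
    · rfl

end Series

section Zeta

variable {k : Type u} [Field k] {X : Scheme.{u}} (f : X ⟶ Spec (CommRingCat.of k))

lemma constantCoeff_logZeta : constantCoeff (Zeta.logZeta f) = 0 := by
  simp [Zeta.logZeta, ← coeff_zero_eq_constantCoeff_apply]

lemma hasLD_zetaFun :
    HasLD (Zeta.zetaFun f) (PowerSeries.mk fun m => (Zeta.nPts f (m + 1) : ℚ)) := by
  have h := hasLD_exp_subst (constantCoeff_logZeta f)
  rwa [Zeta.logZeta, derivative_mk_div fun m => (Zeta.nPts f m : ℚ)] at h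

lemma constantCoeff_zetaFun : constantCoeff (Zeta.zetaFun f) = 1 :=
  constantCoeff_exp_subst (constantCoeff_logZeta f)

/-- The product formula, up to a degree. -/
theorem trunc_zeta_euler (n : ℕ) :
    trunc (n + 1) (Zeta.zetaFun f *
      ∏ r ∈ Finset.Icc 1 n, (1 - PowerSeries.X ^ r) ^ Zeta.degCount f r) = 1 := by
  have hprod := HasLD.prod (K := ℚ) (Finset.Icc 1 n)
    (f := fun r => (1 - PowerSeries.X ^ r) ^ Zeta.degCount f r)
    (h := fun r => Zeta.degCount f r •
      (PowerSeries.mk fun m => if r ∣ m + 1 then -((r : ℚ) * 1 ^ ((m + 1) / r)) else 0))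
    fun r hr => by
      have := hasLD_one_sub_C_mul_X_pow (1 : ℚ) r
        (Nat.one_le_iff_ne_zero.mp (Finset.mem_Icc.mp hr).1)
      rw [map_one, one_mul] at this
      exact HasLD.pow this _
  refine trunc_of_hasLD ((hasLD_zetaFun f).mul hprod) ?_ n fun m hm => ?_
  · rw [map_mul, constantCoeff_zetaFun, map_prod, one_mul]
    refine Finset.prod_eq_one fun r hr => ?_
    have : r ≠ 0 := Nat.one_le_iff_ne_zero.mp (Finset.mem_Icc.mp hr).1
    simp [this]
  · simp only [map_add, map_sum, map_nsmul, coeff_mk, one_pow, mul_one, smul_ite, smul_zero,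
      ← Finset.sum_filter]
    have hset : (Finset.Icc 1 n).filter (· ∣ m + 1) = (m + 1).divisors := by
      ext d
      simp only [Finset.mem_filter, Finset.mem_Icc, Nat.mem_divisors]
      refine ⟨fun h => ⟨h.2, by omega⟩, fun h => ⟨⟨Nat.pos_of_dvd_of_pos h.1 (by omega), ?_⟩, h.1⟩⟩
      exact (Nat.le_of_dvd (by omega) h.1).trans (by omega)
    rw [hset, Zeta.nPts, Nat.cast_sum, ← Finset.sum_add_distrib]
    refine Finset.sum_eq_zero fun r _ => ?_
    rw [nsmul_eq_mul, Nat.cast_mul]
    ring

/-- The coefficients of the zeta function are integers. -/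
theorem exists_int_coeff (n : ℕ) : ∃ z : ℤ, coeff n (Zeta.zetaFun f) = (z : ℚ) := by
  let Q : PowerSeries ℤ := ∏ r ∈ Finset.Icc 1 n, (1 - PowerSeries.X ^ r) ^ Zeta.degCount f r
  have hQ : IsUnit Q := by
    rw [isUnit_iff_constantCoeff]
    rw [map_prod, Finset.prod_eq_one fun r hr => ?_]
    · exact isUnit_one
    · have : r ≠ 0 := Nat.one_le_iff_ne_zero.mp (Finset.mem_Icc.mp hr).1
      simp [this]
  obtain ⟨u, hu⟩ := hQ
  refine ⟨coeff n (↑u⁻¹ : PowerSeries ℤ), ?_⟩
  let ψ := PowerSeries.map (Int.castRingHom ℚ)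
  have h := trunc_zeta_euler f n
  have hQ' : ψ Q = ∏ r ∈ Finset.Icc 1 n, (1 - PowerSeries.X ^ r) ^ Zeta.degCount f r := by
    simp only [ψ, Q, map_prod, map_pow, map_sub, map_one, PowerSeries.map_X]
  rw [← hQ'] at h
  calc coeff n (Zeta.zetaFun f) = coeff n ((Zeta.zetaFun f * ψ Q) * ψ ↑u⁻¹) := by
        rw [mul_assoc, ← map_mul, ← hu, Units.mul_inv, map_one, mul_one]
    _ = coeff n ((1 : PowerSeries ℚ) * ψ ↑u⁻¹) := by
        rw [coeff_mul, coeff_mul]
        refine Finset.sum_congr rfl fun p hp => ?_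
        congr 1
        have := congrArg (Polynomial.coeff · p.1) h
        simp only [coeff_trunc, Polynomial.coeff_one] at this
        rw [if_pos (by have := Finset.HasAntidiagonal.mem_antidiagonal.mp hp; omega)] at this
        rw [this, coeff_one]
    _ = _ := by rw [one_mul]; exact PowerSeries.coeff_map _ n _

/-- Zeta functions are multiplicative when the counts are additive. -/
theorem zetaFun_eq_prod {ι : Type*} [Fintype ι] {Y : ι → Scheme.{u}}
    (g : ∀ i, Y i ⟶ Spec (CommRingCat.of k))
    (h : ∀ e, 0 < e → Zeta.degCount f e = ∑ i, Zeta.degCount (g i) e) :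
    Zeta.zetaFun f = ∏ i, Zeta.zetaFun (g i) := by
  have hp := HasLD.prod Finset.univ (f := fun i => Zeta.zetaFun (g i))
    fun i _ => hasLD_zetaFun (g i)
  have he : PowerSeries.mk (fun m => (Zeta.nPts f (m + 1) : ℚ)) =
      ∑ i, PowerSeries.mk fun m => (Zeta.nPts (g i) (m + 1) : ℚ) := by
    ext m
    rw [map_sum, coeff_mk]
    simp only [coeff_mk]
    rw [← Nat.cast_sum]
    norm_cast
    simp only [Zeta.nPts]
    rw [Finset.sum_comm]
    exact Finset.sum_congr rfl fun e he => by
      rw [h e (Nat.pos_of_mem_divisors he), Finset.mul_sum]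
  refine (he ▸ hasLD_zetaFun f).ext hp ?_ ?_ <;>
    simp [map_prod, constantCoeff_zetaFun]

end Zeta

section Immersion

variable {k : Type u} [Field k] {X Y : Scheme.{u}} (f : X ⟶ Spec (CommRingCat.of k)) (g : Y ⟶ X)
  [IsImmersion g]

lemma bijective_residueFieldMap (y : Y) : Function.Bijective (g.residueFieldMap y).hom := by
  refine ⟨RingHom.injective _, fun z => ?_⟩
  obtain ⟨w, rfl⟩ := Y.residue_surjective y z
  obtain ⟨v, rfl⟩ := g.stalkMap_surjective y w
  exact ⟨(X.residue (g y)).hom v, congrArg (fun φ => φ.hom v) (Scheme.residue_residueFieldMap g y)⟩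

lemma residueDegree_comp (y : Y) :
    EGA4loc.residueDegree (g ≫ f) y = EGA4loc.residueDegree f (g y) := by
  rw [residueDegree_eq, residueDegree_eq]
  let _ := alg (g ≫ f) y
  let _ := alg f (g y)
  refine (Algebra.finrank_eq_of_equiv_equiv (RingEquiv.refl k)
    (RingEquiv.ofBijective _ (bijective_residueFieldMap g y)) ?_).symm
  have h : constHom f (g y) ≫ g.residueFieldMap y = constHom (g ≫ f) y := by
    apply Spec.map_injective
    rw [Spec.map_comp, map_constHom, map_constHom,
      Scheme.Hom.SpecMap_residueFieldMap_fromSpecResidueField_assoc]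
  exact (congrArg CommRingCat.Hom.hom h).symm

include f in
lemma isClosed_iff [LocallyOfFiniteType f] (y : Y) : IsClosed ({y} : Set Y) ↔ IsClosed ({g y} : Set X) := by
  rw [← residueDegree_pos_iff (g ≫ f), residueDegree_comp, residueDegree_pos_iff]

end Immersion

/-- Degree counts along a partition of the closed points by subschemes. -/
theorem degCount_partition {k : Type u} [Field k] [Finite k] {X : Scheme.{u}}
    (f : X ⟶ Spec (CommRingCat.of k)) [LocallyOfFiniteType f] [QuasiCompact f] {ι : Type*}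
    [Fintype ι] (Y : ι → Scheme.{u}) (g : ∀ i, Y i ⟶ X) [∀ i, IsImmersion (g i)]
    (hpart : ∀ x : X, IsClosed ({x} : Set X) → ∃! i, x ∈ Set.range (g i).base) (e : ℕ) :
    Zeta.degCount f e = ∑ i, Zeta.degCount (g i ≫ f) e := by
  have hfin : ∀ i, Finite { y : Y i // IsClosed ({y} : Set (Y i)) ∧
      EGA4loc.residueDegree (g i ≫ f) y = e } := fun i => by
    have := (finite_degree f e).to_subtype
    refine Finite.of_injective (β := { x : X | IsClosed ({x} : Set X) ∧
        EGA4loc.residueDegree f x = e })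
      (fun y => ⟨g i y.1, (isClosed_iff f (g i) y.1).mp y.2.1,
        (residueDegree_comp f (g i) y.1).symm.trans y.2.2⟩) fun a b h => Subtype.ext ?_
    exact (g i).isEmbedding.injective (congrArg Subtype.val h)
  unfold Zeta.degCount
  rw [← Nat.card_sigma]
  refine (Nat.card_eq_of_bijective
    (fun σ => ⟨g σ.1 σ.2.1, (isClosed_iff f (g σ.1) σ.2.1).mp σ.2.2.1,
      (residueDegree_comp f (g σ.1) σ.2.1).symm.trans σ.2.2.2⟩) ⟨?_, ?_⟩).symm
  · rintro ⟨i, y, hy⟩ ⟨j, z, hz⟩ h
    have h' : g i y = g j z := congrArg Subtype.val h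
    obtain rfl : i = j :=
      (hpart _ ((isClosed_iff f (g i) y).mp hy.1)).unique ⟨y, rfl⟩ ⟨z, h'.symm⟩
    obtain rfl := (g i).isEmbedding.injective h'
    rfl
  · rintro ⟨x, hx, he⟩
    obtain ⟨i, ⟨y, rfl⟩, -⟩ := hpart x hx
    exact ⟨⟨i, y, (isClosed_iff f (g i) y).mpr hx, (residueDegree_comp f (g i) y).trans he⟩, rfl⟩

end Groth.Agent.ZetaPts

end
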